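import Cfsg.Agent.H400.L34.QBasis
import Cfsg.Agent.H940.L34.LemH

/-!
# S5917, type D: the commutant of a free quaternion group in `o₈` (helper633)

`M` of dimension 8, `i j` isometries with the relations of the quaternion group, `z = i²` free. The nilpotent `X` with
`b (X v) v = 0` commuting with `i`, `j` form a space of dimension at most 3 with zero products (`cent3`).
-/

set_option autoImplicit false

namespace Cfsg.Agent.H633.L34.Cent3

open Module Cfsg.Agent.H400.L34.QFree

variable {K : Type*} [Field K] {M : Type*} [AddCommGroup M] [Module K M]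

section
variable [CharP K 2] {i j : M →ₗ[K] M} {f : M}

/-- the three vectors -/
def g1 (i : M →ₗ[K] M) (f : M) : M := i f + i (i (i f))
def g2 (i j : M →ₗ[K] M) (f : M) : M := j f + i (i (j f))
def g3 (i j : M →ₗ[K] M) (f : M) : M := i (j f) + i (i (i (j f)))

/-- the space -/
def W3 (i j : M →ₗ[K] M) (f : M) : Submodule K (M →ₗ[K] M) where
  carrier := {X | (∀ v, X (i v) = i (X v)) ∧ (∀ v, X (j v) = j (X v)) ∧
    X f ∈ Submodule.span K (Set.range ![g1 i f, g2 i j f, g3 i j f])}
  add_mem' := fun {X Y} hX hY => ⟨fun v => by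
      rw [LinearMap.add_apply, LinearMap.add_apply, hX.1, hY.1, map_add], fun v => by
      rw [LinearMap.add_apply, LinearMap.add_apply, hX.2.1, hY.2.1, map_add], by
      rw [LinearMap.add_apply]
      exact Submodule.add_mem _ hX.2.2 hY.2.2⟩
  zero_mem' := ⟨fun v => by rw [LinearMap.zero_apply, LinearMap.zero_apply, map_zero], fun v => by
      rw [LinearMap.zero_apply, LinearMap.zero_apply, map_zero], by
      rw [LinearMap.zero_apply]
      exact Submodule.zero_mem _⟩
  smul_mem' := fun c X hX => ⟨fun v => by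
      rw [LinearMap.smul_apply, LinearMap.smul_apply, hX.1, map_smul], fun v => by
      rw [LinearMap.smul_apply, LinearMap.smul_apply, hX.2.1, map_smul], by
      rw [LinearMap.smul_apply]
      exact Submodule.smul_mem _ _ hX.2.2⟩

/-- a map commuting with `i`, `j` and zero at `f` is zero -/
theorem ext_f (hsp : Submodule.span K (Set.range (vec i j f)) = ⊤) {X Y : M →ₗ[K] M} (hi : ∀ v, X (i v) = i (X v))
    (hj : ∀ v, X (j v) = j (X v)) (hi' : ∀ v, Y (i v) = i (Y v)) (hj' : ∀ v, Y (j v) = j (Y v)) (h : X f = Y f) :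
    X = Y := by
  apply LinearMap.ext_on_range hsp
  intro k
  fin_cases k
  · exact h
  · show X (i f) = Y (i f)
    rw [hi, hi', h]
  · show X (i (i f)) = Y (i (i f))
    rw [hi, hi, hi', hi', h]
  · show X (i (i (i f))) = Y (i (i (i f)))
    rw [hi, hi, hi, hi', hi', hi', h]
  · show X (j f) = Y (j f)
    rw [hj, hj', h]
  · show X (i (j f)) = Y (i (j f))
    rw [hi, hi', hj, hj', h]
  · show X (i (i (j f))) = Y (i (i (j f)))
    rw [hi, hi, hi', hi', hj, hj', h]
  · show X (i (i (i (j f)))) = Y (i (i (i (j f))))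
    rw [hi, hi, hi, hi', hi', hi', hj, hj', h]

theorem finrank_W3 (hsp : Submodule.span K (Set.range (vec i j f)) = ⊤) [FiniteDimensional K M] :
    finrank K (W3 i j f) ≤ 3 := by
  let S := Submodule.span K (Set.range ![g1 i f, g2 i j f, g3 i j f])
  let φ : W3 i j f →ₗ[K] S :=
    { toFun := fun X => ⟨X.1 f, X.2.2.2⟩
      map_add' := fun X Y => rfl
      map_smul' := fun c X => rfl }
  have hφ : Function.Injective φ := by
    intro X Y h
    apply Subtype.ext
    exact ext_f hsp X.2.1 X.2.2.1 Y.2.1 Y.2.2.1 (congrArg Subtype.val h)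
  have h1 := LinearMap.finrank_le_finrank_of_injective hφ
  have h2 : finrank K S ≤ 3 := by
    have := finrank_range_le_card (R := K) ![g1 i f, g2 i j f, g3 i j f]
    rw [Fintype.card_fin] at this
    exact this
  exact h1.trans h2

theorem mm (K : Type*) [Field K] [CharP K 2] {M : Type*} [AddCommGroup M] [Module K M] (v : M) : v + v = 0 := by
  rw [← two_smul K v, CharTwo.two_eq_zero, zero_smul]

/-- the products vanish -/
theorem mul_zero' (h : QL i j) (hsp : Submodule.span K (Set.range (vec i j f)) = ⊤) {X Y : M →ₗ[K] M}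
    (hX : X ∈ W3 i j f) (hY : Y ∈ W3 i j f) (v : M) : X (Y v) = 0 := by
  obtain ⟨x1, x2, x3⟩ := hX
  obtain ⟨y1, y2, y3⟩ := hY
  -- `(1 + z)` kills `X f`
  have hz : ∀ u ∈ Submodule.span K (Set.range ![g1 i f, g2 i j f, g3 i j f]), i (i u) = u := by
    intro u hu
    induction hu using Submodule.span_induction with
    | mem u hu =>
      obtain ⟨k, rfl⟩ := hu
      fin_cases k
      · show i (i (i f + i (i (i f)))) = i f + i (i (i f))
        rw [map_add, map_add, h.four]
        exact add_comm _ _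
      · show i (i (j f + i (i (j f)))) = j f + i (i (j f))
        rw [map_add, map_add, h.four]
        exact add_comm _ _
      · show i (i (i (j f) + i (i (i (j f))))) = i (j f) + i (i (i (j f)))
        rw [map_add, map_add, h.four]
        exact add_comm _ _
    | zero => rw [map_zero, map_zero]
    | add a b _ _ ha hb => rw [map_add, map_add, ha, hb]
    | smul c a _ ha => rw [map_smul, map_smul, ha]
  have hxz : i (i (X f)) = X f := hz _ x3
  have hxy : ∀ u ∈ Submodule.span K (Set.range ![g1 i f, g2 i j f, g3 i j f]), X u = 0 := by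
    intro u hu
    induction hu using Submodule.span_induction with
    | mem u hu =>
      obtain ⟨k, rfl⟩ := hu
      fin_cases k
      · show X (i f + i (i (i f))) = 0
        rw [map_add, x1, x1, x1, x1, hxz]
        exact mm K _
      · show X (j f + i (i (j f))) = 0
        rw [map_add, x1, x1, x2, ← h.jz, hxz]
        exact mm K _
      · show X (i (j f) + i (i (i (j f)))) = 0
        rw [map_add, x1, x1, x1, x1, x2, ← h.jz, hxz]
        exact mm K _
    | zero => rw [map_zero]
    | add a b _ _ ha hb => rw [map_add, ha, hb, add_zero]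
    | smul c a _ ha => rw [map_smul, ha, smul_zero]
  have key : X ∘ₗ Y = 0 := by
    apply ext_f hsp
    · intro v
      simp only [LinearMap.comp_apply, y1, x1]
    · intro v
      simp only [LinearMap.comp_apply, y2, x2]
    · intro v
      simp only [LinearMap.zero_apply, map_zero]
    · intro v
      simp only [LinearMap.zero_apply, map_zero]
    · show X (Y f) = 0
      exact hxy _ y3
  exact LinearMap.congr_fun key v

open Cfsg.Agent.H400.L34.QNorm

variable {q : M → K} {b : M →ₗ[K] M →ₗ[K] K}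

/-- normal form -/
structure NF (b : M →ₗ[K] M →ₗ[K] K) (i j : M →ₗ[K] M) (f : M) : Prop where
  b0 : b f f = 0
  b1 : b f (i f) = 0
  b2 : b f (i (i f)) = 1
  b3 : b f (i (i (i f))) = 0
  b4 : b f (j f) = 0
  b5 : b f (i (j f)) = 0
  b6 : b f (i (i (j f))) = 0
  b7 : b f (i (i (i (j f)))) = 0

theorem NF.nrm (n : NF b i j f) : nrm i j f ≠ 0 := by
  intro h
  have h1 : b f (Cfsg.Agent.H400.L34.QFree.nrm i j f) = 1 := by
    unfold Cfsg.Agent.H400.L34.QFree.nrm
    simp only [map_add, n.b0, n.b1, n.b2, n.b3, n.b4, n.b5, n.b6, n.b7, add_zero, zero_add]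
  rw [h, map_zero] at h1
  exact zero_ne_one h1

theorem span_top [FiniteDimensional K M] (hV : finrank K M = 8) (hl : QL i j) {e : M}
    (he : Cfsg.Agent.H400.L34.QFree.nrm i j e ≠ 0) : Submodule.span K (Set.range (vec i j e)) = ⊤ :=
  (hl.indep he).span_eq_top_of_card_eq_finrank' (by rw [hV, Fintype.card_fin])

theorem mem_W3 [FiniteDimensional K M] (hV : finrank K M = 8) (h : QD q b i j) (hl : QL i j) (n : NF b i j f)
    {X : M →ₗ[K] M} (x1 : ∀ v, X (i v) = i (X v)) (x2 : ∀ v, X (j v) = j (X v)) (hn : IsNilpotent X)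
    (hb : ∀ v, b (X v) v = 0) : X ∈ W3 i j f := by
  have hsp := span_top hV hl n.nrm
  have hkk : ∀ a : K, a + a = 0 := CharTwo.add_self_eq_zero
  obtain ⟨a, ha⟩ : ∃ a : Fin 8 → K, ∑ k, a k • vec i j f k = X f :=
    (Submodule.mem_span_range_iff_exists_fun K).1 (by rw [hsp]; trivial)
  rw [Fin.sum_univ_eight] at ha
  simp only [vec, Matrix.cons_val] at ha
  have pol : ∀ v w, b (X v) w = b v (X w) := by
    intro v w
    have h1 := hb (v + w)
    simp only [map_add, LinearMap.add_apply, hb, zero_add, add_zero] at h1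
    rw [h.symm v (X w)]
    have h2 := hkk (b (X w) v)
    exact add_right_cancel ((add_comm _ _).trans (h1.trans h2.symm))
  -- coefficient of `z`
  have a2 : a 2 = 0 := by
    have h1 := hb f
    rw [h.symm, ← ha] at h1
    simp only [map_add, map_smul, smul_eq_mul, n.b0, n.b1, n.b2, n.b3, n.b4, n.b5, n.b6, n.b7, mul_zero, mul_one,
      add_zero, zero_add] at h1
    exact h1
  have e13 : a 1 = a 3 := by
    have h1 := pol f (i f)
    rw [x1, ← h.bi, ← h.bi, ← h.bi, h.four, h.symm _ f, ← ha] at h1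
    simp only [map_add, map_smul, smul_eq_mul, h.four, hl.ji, h.sq, n.b0, n.b1, n.b2, n.b3, n.b4, n.b5, n.b6, n.b7,
      mul_zero, mul_one, add_zero, zero_add] at h1
    exact h1.symm
  have e46 : a 4 = a 6 := by
    have h1 := pol f (j f)
    rw [x2, ← h.bj, ← h.bj, ← h.bj, h.swap.four, h.symm _ f, ← ha] at h1
    simp only [map_add, map_smul, smul_eq_mul, h.four, hl.ji, h.sq, n.b0, n.b1, n.b2, n.b3, n.b4, n.b5, n.b6, n.b7,
      mul_zero, mul_one, add_zero, zero_add] at h1
    exact h1.symm
  have e57 : a 5 = a 7 := by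
    have h1 := pol f (i (j f))
    have h2 : b (X f) (i (j f)) = b f (i (i (i (j (X f))))) := by
      have e : i (j (i (i (i (j (X f)))))) = X f := by simp only [hl.ji, h.sq, h.four]
      rw [h.symm f, ← h.bj (i (i (i (j (X f))))) f, ← h.bi (j (i (i (i (j (X f)))))) (j f), e]
    rw [x1, x2, h2, ← ha] at h1
    simp only [map_add, map_smul, smul_eq_mul, h.four, hl.ji, h.sq, n.b0, n.b1, n.b2, n.b3, n.b4, n.b5, n.b6, n.b7,
      mul_zero, mul_one, add_zero, zero_add] at h1
    exact h1.symm
  -- nilpotent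
  have hN : X (Cfsg.Agent.H400.L34.QFree.nrm i j f) =
      (a 0 + a 1 + a 2 + a 3 + a 4 + a 5 + a 6 + a 7) • Cfsg.Agent.H400.L34.QFree.nrm i j f := by
    unfold Cfsg.Agent.H400.L34.QFree.nrm
    simp only [map_add, x1, x2]
    rw [← ha]
    simp only [map_add, map_smul, h.four, hl.ji, h.sq]
    module
  have hs0 : a 0 + a 1 + a 2 + a 3 + a 4 + a 5 + a 6 + a 7 = 0 := by
    obtain ⟨m, hm⟩ := hn
    have hp : ∀ m : ℕ, (X ^ m) (Cfsg.Agent.H400.L34.QFree.nrm i j f) =
        (a 0 + a 1 + a 2 + a 3 + a 4 + a 5 + a 6 + a 7) ^ m • Cfsg.Agent.H400.L34.QFree.nrm i j f := by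
      intro m
      induction m with
      | zero => rw [pow_zero, pow_zero, one_smul]; rfl
      | succ m ih =>
        rw [pow_succ, Module.End.mul_apply, hN, map_smul, ih, smul_smul, pow_succ, mul_comm]
    have h1 := hp m
    rw [hm, LinearMap.zero_apply] at h1
    exact eq_zero_of_pow_eq_zero ((smul_eq_zero.1 h1.symm).resolve_right n.nrm)
  have a0 : a 0 = 0 := by
    rw [a2, ← e13, ← e46, ← e57] at hs0
    linear_combination hs0 - hkk (a 1) - hkk (a 4) - hkk (a 5)
  refine ⟨x1, x2, ?_⟩
  have e : X f = a 1 • g1 i f + a 4 • g2 i j f + a 5 • g3 i j f := by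
    rw [← ha, a0, a2, ← e13, ← e46, ← e57]
    unfold g1 g2 g3
    module
  rw [e]
  refine Submodule.add_mem _ (Submodule.add_mem _ ?_ ?_) ?_
  · exact Submodule.smul_mem _ _ (Submodule.subset_span ⟨0, rfl⟩)
  · exact Submodule.smul_mem _ _ (Submodule.subset_span ⟨1, rfl⟩)
  · exact Submodule.smul_mem _ _ (Submodule.subset_span ⟨2, rfl⟩)

/-- **the commutant** -/
theorem cent3 [IsAlgClosed K] [FiniteDimensional K M] (hV : finrank K M = 8) (h : QD q b i j)
    (hnd : ∀ v, (∀ w, b w v = 0) → v = 0) (hf : ∀ v, i (i v) = v → ∃ w, v = w + i (i w)) :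
    ∃ W : Submodule K (M →ₗ[K] M), finrank K W ≤ 3 ∧ (∀ X ∈ W, ∀ Y ∈ W, ∀ v, X (Y v) = 0) ∧
      ∀ X : M →ₗ[K] M, (∀ v, X (i v) = i (X v)) → (∀ v, X (j v) = j (X v)) → IsNilpotent X →
        (∀ v, b (X v) v = 0) → X ∈ W := by
  have hnt : Nontrivial M := nontrivial_of_finrank_pos (R := K) (by rw [hV]; norm_num)
  have hl : QL i j := ⟨h.sq, h.four, h.comm⟩
  obtain ⟨v, hv⟩ := hl.exists_nrm hf
  have hsv := span_top hV hl hv
  have hkk : ∀ a : K, a + a = 0 := CharTwo.add_self_eq_zero
  have n0 := h.b_self v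
  have n3 := h.inv_i v
  have n6 : b v (i (i (j v))) = b v (j v) := by
    rw [← h.sq (j v)]
    exact h.swap.inv_i v
  have n7 := h.zk v
  have hb0 : b v (Cfsg.Agent.H400.L34.QFree.nrm i j v) = b v (i (i v)) := by
    unfold Cfsg.Agent.H400.L34.QFree.nrm
    simp only [map_add, n0, n3, n6, n7]
    linear_combination hkk (b v (i v)) + hkk (b v (j v)) + hkk (b v (i (j v)))
  have hbz : b v (i (i v)) ≠ 0 := by
    intro hc
    rw [hc] at hb0
    apply hv
    apply hnd
    have fi : i (Cfsg.Agent.H400.L34.QFree.nrm i j v) = Cfsg.Agent.H400.L34.QFree.nrm i j v := by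
      unfold Cfsg.Agent.H400.L34.QFree.nrm
      simp only [map_add, h.four]
      module
    have fj : j (Cfsg.Agent.H400.L34.QFree.nrm i j v) = Cfsg.Agent.H400.L34.QFree.nrm i j v := by
      unfold Cfsg.Agent.H400.L34.QFree.nrm
      simp only [map_add, h.four, hl.ji, h.sq]
      module
    have si : ∀ u, b (i u) (Cfsg.Agent.H400.L34.QFree.nrm i j v) = b u (Cfsg.Agent.H400.L34.QFree.nrm i j v) :=
      fun u => by
        conv_lhs => rw [← fi]
        exact h.bi _ _
    have sj : ∀ u, b (j u) (Cfsg.Agent.H400.L34.QFree.nrm i j v) = b u (Cfsg.Agent.H400.L34.QFree.nrm i j v) :=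
      fun u => by
        conv_lhs => rw [← fj]
        exact h.bj _ _
    intro w
    have hw : w ∈ Submodule.span K (Set.range (vec i j v)) := by rw [hsv]; trivial
    induction hw using Submodule.span_induction with
    | mem u hu =>
      obtain ⟨k, rfl⟩ := hu
      fin_cases k
      · exact hb0
      · show b (i v) _ = 0
        rw [si, hb0]
      · show b (i (i v)) _ = 0
        rw [si, si, hb0]
      · show b (i (i (i v))) _ = 0
        rw [si, si, si, hb0]
      · show b (j v) _ = 0
        rw [sj, hb0]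
      · show b (i (j v)) _ = 0
        rw [si, sj, hb0]
      · show b (i (i (j v))) _ = 0
        rw [si, si, sj, hb0]
      · show b (i (i (i (j v)))) _ = 0
        rw [si, si, si, sj, hb0]
    | zero => rw [map_zero, LinearMap.zero_apply]
    | add x y _ _ hx hy => rw [map_add, LinearMap.add_apply, hx, hy, add_zero]
    | smul c x _ hx => rw [map_smul, LinearMap.smul_apply, hx, smul_zero]
  obtain ⟨f, _, f2, f1, f4, f5⟩ := h.exists_f hbz
  have n : NF b i j f :=
    { b0 := h.b_self f
      b1 := f1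
      b2 := f2
      b3 := by rw [h.inv_i, f1]
      b4 := f4
      b5 := f5
      b6 := by rw [← h.sq (j f)]; exact (h.swap.inv_i f).trans f4
      b7 := by rw [h.zk, f5] }
  have hsp := span_top hV hl n.nrm
  exact ⟨W3 i j f, finrank_W3 hsp, fun X hX Y hY v => mul_zero' hl hsp hX hY v, fun X x1 x2 hn hb =>
    mem_W3 hV h hl n x1 x2 hn hb⟩

end

end Cfsg.Agent.H633.L34.Cent3
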